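import Mathlib
import Cfsg.Prelude.Def_Blocks
import Cfsg.Agent.H656.FrobBlock
import Cfsg.Agent.H590.StLink
import Cfsg.Agent.Lib.SchurBound
import Cfsg.Agent.SporadicA.M11CharBasic

/-!
# The principal `3`-block of a group with elementary abelian Sylow `3`-subgroup of order `9`

`P` is a Sylow `3`-subgroup of order `9` and exponent `3`, and `C_G(z) ∩ N_G(P) = C_G(P)` for all
`1 ≠ z ∈ P`; `e = |N_G(P) : C_G(P)|`.

* `mul_card`: `e k = e l + 8`;
* `small`: for `e = 1, 2, 4`: `k = 9, 6, 6`, and all degrees are prime to `3`;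
* `eight`: for `e = 8`: `k = 6`, or `k = 9` and all values at `3`-singular elements are signs.
-/

set_option autoImplicit false
set_option linter.unusedSectionVars false

open scoped ComplexConjugate
open Cfsg Cfsg.Agent Cfsg.Agent.Characters.Core

namespace Cfsg.Agent.H657.NineBlock

universe u

/-- Sylow `3`-subgroup of order `9`, exponent `3`, semiregular action of the normalizer. -/
structure Nine {G : Type u} [Group G] (P : Sylow 3 G) : Prop where
  card : Nat.card (P : Subgroup G) = 9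
  exp : ∀ x ∈ (P : Subgroup G), x ^ 3 = 1
  comm : ∀ x y : P, x * y = y * x
  sr : ∀ z ∈ (P : Subgroup G), z ≠ 1 →
      Subgroup.centralizer ({z} : Set G) ⊓ Subgroup.normalizer ((P : Subgroup G) : Set G) =
      Subgroup.centralizer ((P : Subgroup G) : Set G)

variable {M : Ideal AlgInt} {G : Type u} [Group G] [Finite G]

theorem Nine.exists_ne {P : Sylow 3 G} (h : Nine P) : ∃ x ∈ (P : Subgroup G), x ≠ 1 := by
  by_contra hcon
  push Not at hcon
  have h1 : (P : Subgroup G) = ⊥ := by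
    rw [Subgroup.eq_bot_iff_forall]
    exact hcon
  have h2 := h.card
  rw [h1] at h2
  simp at h2

theorem Nine.st_eq {P : Sylow 3 G} (h : Nine P) (u : (P : Subgroup G)) (hu : u ≠ 1) :
    H590.Act16.st (H590.StLink.aut P) u = 1 := by
  have h1 := Blocks.SylowColumns.sr (P : Subgroup G) h.sr
  rw [H590.Act16.st, Nat.card_eq_one_iff_unique]
  refine ⟨⟨fun s t => ?_⟩, ⟨⟨1, by simp⟩⟩⟩
  have hs := h1 _ s.1.2 u hu s.2
  have ht := h1 _ t.1.2 u hu t.2
  exact Subtype.ext (Subtype.ext (hs.trans ht.symm))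

/-- Brauer's formula. -/
theorem mul_card (hM : IsPModular 3 M) {P : Sylow 3 G} (h : Nine P) :
    (Subgroup.centralizer ((P : Subgroup G) : Set G)).relIndex
      (Subgroup.normalizer ((P : Subgroup G) : Set G)) * Nat.card (principalBlock M G) =
    (Subgroup.centralizer ((P : Subgroup G) : Set G)).relIndex
      (Subgroup.normalizer ((P : Subgroup G) : Set G)) * blockRank 3 (principalBlock M G) + 8 := by
  classical
  have : Fintype (P : Subgroup G) := Fintype.ofFinite _
  have hab : ∀ a ∈ (P : Subgroup G), ∀ b ∈ (P : Subgroup G), a * b = b * a :=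
    fun a ha b hb => congrArg Subtype.val (h.comm ⟨a, ha⟩ ⟨b, hb⟩)
  have h1 := H590.StLink.sum_formula hM P hab
  rw [H590.StLink.card_aut] at h1
  rw [h1, ← Finset.add_sum_erase Finset.univ _ (Finset.mem_univ (1 : (P : Subgroup G)))]
  have h2 : H590.Act16.st (H590.StLink.aut P) 1 =
      (Subgroup.centralizer ((P : Subgroup G) : Set G)).relIndex
      (Subgroup.normalizer ((P : Subgroup G) : Set G)) := by
    rw [← H590.StLink.card_aut, H590.Act16.st_eq_card_iff]
    intro s _
    exact map_one s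
  rw [h2, OneMemClass.coe_one, H590.StLink.rk_centralizer_of_center (one_mem _)]
  congr 1
  rw [Finset.sum_congr rfl (g := fun _ => 1)]
  · rw [Finset.sum_const, Finset.card_erase_of_mem (Finset.mem_univ _), Finset.card_univ,
      ← Nat.card_eq_fintype_card, h.card]
    rfl
  · intro u hu
    rw [h.st_eq u (Finset.ne_of_mem_erase hu), one_mul]
    exact (H590.StLink.rk_eq_one_iff hM P hab u).2 (h.st_eq u (Finset.ne_of_mem_erase hu))

theorem isPPart_self {y : G} (hy : y ^ 3 = 1) : IsPPart 3 y y := by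
  refine ⟨1, mul_one _, Commute.one_right _, ?_, ?_⟩
  · obtain h | h := (Nat.dvd_prime Nat.prime_three).1 (orderOf_dvd_of_pow_eq_one hy)
    · exact ⟨0, by simpa using h⟩
    · exact ⟨1, by simpa using h⟩
  · rw [orderOf_one]; norm_num

/-- The degree of a character with an integral value at an element of order `3`. -/
theorem dvd_sub {χ : IrrCharacter G} {y : G} (hy : y ^ 3 = 1) {a : ℤ} (ha : (χ : G → ℂ) y = a) :
    (3 : ℤ) ∣ charDegree (χ : G → ℂ) - a := by
  have h1 : y ^ 3 ^ 1 = 1 := by simpa using hy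
  exact_mod_cast Lib.SchurBound.dvd_sub_of_pow (isIrr_isCharacter χ.2) Nat.prime_three h1
    (S0914.degree_spec χ).1 ha

/-- The case of a small automizer. -/
theorem small (hM : IsPModular 3 M) {P : Sylow 3 G} (h : Nine P) {e : ℕ}
    (he : (Subgroup.centralizer ((P : Subgroup G) : Set G)).relIndex
      (Subgroup.normalizer ((P : Subgroup G) : Set G)) = e) (h4 : e = 1 ∨ e = 2 ∨ e = 4) :
    Nat.card (principalBlock M G) = e + 8 / e ∧
      ∀ χ ∈ principalBlock M G, ¬ 3 ∣ charDegree (χ : G → ℂ) := by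
  classical
  have hfinI : Finite (IrrCharacter G) := finite_irr
  obtain ⟨s, X, Y, hs, hXY, hdisj, hX, hY, ⟨χ₁, hχ₁, h1⟩, a, d, δ, ζ, hδ, haX, -, -, -, -, hsum, -,
    hlast⟩ := H656.FrobBlock.main M hM P h.comm e (by rw [h.card]; omega) he h.sr
  have hXf : X.Finite := Set.toFinite X
  have hYf : Y.Finite := Set.toFinite Y
  obtain ⟨y, hy, hy1⟩ := h.exists_ne
  have hval : ∀ χ ∈ X, (χ : G → ℂ) y = (a χ : ℂ) := fun χ hχ =>
    (haX χ hχ).2 y y (isPPart_self (h.exp y hy)) hy hy1
  have ha1 : a χ₁ = 1 := by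
    have h2 := hval χ₁ hχ₁
    rw [h1] at h2
    have h3 : (1 : ℂ) = (a χ₁ : ℂ) := h2
    exact_mod_cast h3.symm
  rw [h.card, finsum_mem_eq_finite_toFinset_sum _ hXf] at hsum
  have hcX : Nat.card X = hXf.toFinset.card := Nat.card_eq_card_finite_toFinset hXf
  -- the sum of squares
  have hS1 : 1 + ∑ χ ∈ hXf.toFinset.erase χ₁, a χ ^ 2 = ∑ χ ∈ hXf.toFinset, a χ ^ 2 := by
    rw [← Finset.add_sum_erase _ _ (hXf.mem_toFinset.2 hχ₁), ha1]
    norm_num
  have hSnn : 0 ≤ ∑ χ ∈ hXf.toFinset.erase χ₁, a χ ^ 2 := Finset.sum_nonneg fun _ _ => sq_nonneg _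
  have hN : ∑ χ ∈ hXf.toFinset, a χ ^ 2 = e := by
    have hd0 := sq_nonneg (d - δ)
    have hdd := sq_nonneg d
    have hdb : -3 ≤ d ∧ d ≤ 3 := by
      have h5 : d ^ 2 ≤ 5 := by
        rcases h4 with rfl | rfl | rfl <;> norm_num at hsum <;> nlinarith
      constructor <;> nlinarith
    obtain ⟨hd3, hd3'⟩ := hdb
    rcases h4 with rfl | rfl | rfl <;> norm_num at hsum ⊢ <;>
      rcases hδ with rfl | rfl <;> interval_cases d <;> norm_num at hsum ⊢ <;> linarith
  have hsq : ∀ χ ∈ X, a χ ^ 2 = 1 := by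
    intro χ hχ
    by_contra hne
    have h2 : (4 : ℤ) ≤ a χ ^ 2 := by
      have h3 := (haX χ hχ).1
      have h5 : 2 ≤ |a χ| := by
        by_contra h6
        have h7 : |a χ| = 1 := by
          have := abs_pos.2 h3
          omega
        exact hne (by rw [← sq_abs, h7]; norm_num)
      rw [← sq_abs]
      nlinarith
    have hne1 : χ ≠ χ₁ := by
      rintro rfl
      rw [ha1] at h2
      norm_num at h2
    have h3 : a χ ^ 2 ≤ ∑ χ ∈ hXf.toFinset.erase χ₁, a χ ^ 2 :=
      Finset.single_le_sum (f := fun χ => a χ ^ 2) (fun _ _ => sq_nonneg _)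
        (Finset.mem_erase.2 ⟨hne1, hXf.mem_toFinset.2 hχ⟩)
    have h5 : (e : ℤ) ≤ 4 := by rcases h4 with rfl | rfl | rfl <;> norm_num
    omega
  have hs' : s = e := by
    have h2 : ∑ χ ∈ hXf.toFinset, a χ ^ 2 = (s : ℤ) := by
      rw [Finset.sum_congr rfl fun χ hχ => hsq χ (hXf.mem_toFinset.1 hχ), Finset.sum_const,
        ← hcX, hX]
      simp
    rw [h2] at hN
    exact_mod_cast hN
  have hYc : Nat.card Y = 8 / e := by rw [hY, h.card]
  refine ⟨?_, ?_⟩
  · rw [hXY, Nat.card_coe_set_eq, Set.ncard_union_eq hdisj hXf hYf, ← Nat.card_coe_set_eq,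
      ← Nat.card_coe_set_eq, hX, hYc, hs']
  · intro χ hχ hdvd
    rw [hXY] at hχ
    rcases hχ with hχ | hχ
    · have h2 := dvd_sub (h.exp y hy) (hval χ hχ)
      have h3 : (3 : ℤ) ∣ a χ := by
        have : (3 : ℤ) ∣ charDegree (χ : G → ℂ) := by exact_mod_cast hdvd
        exact (Int.dvd_iff_dvd_of_dvd_sub h2).1 this
      have h5 : (3 : ℤ) ∣ a χ ^ 2 := dvd_pow h3 two_ne_zero
      rw [hsq χ hχ] at h5
      norm_num at h5
    · have h2 := hlast χ hχ 1 (by rw [orderOf_one]; norm_num)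
      rw [finsum_mem_eq_finite_toFinset_sum _ hXf, (S0914.degree_spec χ).1,
        Finset.sum_congr rfl fun ψ _ => by rw [(S0914.degree_spec ψ).1]] at h2
      obtain ⟨q, hq⟩ : ∃ q : ℕ, (Nat.card (P : Subgroup G) - 1) / e = q := ⟨_, rfl⟩
      rw [hq] at h2
      have h3 : ((q : ℤ) * d - δ) * (charDegree (χ : G → ℂ) : ℤ) +
          ∑ ψ ∈ hXf.toFinset, a ψ * (charDegree (ψ : G → ℂ) : ℤ) = 0 := by
        exact_mod_cast h2
      have h5 : (3 : ℤ) ∣ ∑ ψ ∈ hXf.toFinset, a ψ * (charDegree (ψ : G → ℂ) : ℤ) := by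
        have h6 : (3 : ℤ) ∣ ((q : ℤ) * d - δ) * (charDegree (χ : G → ℂ) : ℤ) :=
          Dvd.dvd.mul_left (by exact_mod_cast hdvd) _
        refine (dvd_add_right h6).1 ?_
        rw [h3]
        exact dvd_zero _
      have h6 : (3 : ℤ) ∣ ∑ ψ ∈ hXf.toFinset, a ψ * (charDegree (ψ : G → ℂ) : ℤ) -
          ∑ ψ ∈ hXf.toFinset, a ψ ^ 2 := by
        rw [← Finset.sum_sub_distrib]
        refine Finset.dvd_sum fun ψ hψ => ?_
        have h7 := dvd_sub (h.exp y hy) (hval ψ (hXf.mem_toFinset.1 hψ))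
        have h8 : a ψ * (charDegree (ψ : G → ℂ) : ℤ) - a ψ ^ 2 =
          a ψ * ((charDegree (ψ : G → ℂ) : ℤ) - a ψ) := by ring
        rw [h8]
        exact Dvd.dvd.mul_left h7 _
      have h7 : (3 : ℤ) ∣ e := by
        rw [← hN]
        exact (Int.dvd_iff_dvd_of_dvd_sub h6).1 h5
      rcases h4 with rfl | rfl | rfl <;> norm_num at h7

/-- A regular automizer: all nontrivial elements of `P` are conjugate. -/
theorem Nine.isConj {P : Sylow 3 G} (h : Nine P)
    (he : (Subgroup.centralizer ((P : Subgroup G) : Set G)).relIndex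
      (Subgroup.normalizer ((P : Subgroup G) : Set G)) = 8) {x y : G}
    (hx : x ∈ (P : Subgroup G)) (hy : y ∈ (P : Subgroup G)) (hx1 : x ≠ 1) (hy1 : y ≠ 1) :
    IsConj x y := by
  classical
  have hsr := Blocks.SylowColumns.sr (P : Subgroup G) h.sr
  let E := (P : Subgroup G).normalizerMonoidHom.range
  have hE : Nat.card E = 8 := by rw [← he]; exact Blocks.SylowColumns.card_range (P : Subgroup G)
  let x' : (P : Subgroup G) := ⟨x, hx⟩
  have hx1' : x' ≠ 1 := fun h => hx1 (congrArg Subtype.val h)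
  let f : E → {v : (P : Subgroup G) // v ≠ 1} := fun s => ⟨(s : MulAut (P : Subgroup G)) x', by
    intro h0
    exact hx1' ((map_eq_one_iff _ (MulEquiv.injective _)).1 h0)⟩
  have hf : Function.Injective f := by
    intro s t hst
    have h1 : (s : MulAut (P : Subgroup G)) x' = (t : MulAut (P : Subgroup G)) x' :=
      congrArg Subtype.val hst
    have h2 : ((t : MulAut (P : Subgroup G))⁻¹ * (s : MulAut (P : Subgroup G))) x' = x' := by
      rw [MulAut.mul_apply, h1]
      exact MulAut.inv_apply_self _ _ _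
    have h3 := hsr _ (E.mul_mem (E.inv_mem t.2) s.2) x' hx1' h2
    exact Subtype.ext (inv_mul_eq_one.1 h3).symm
  have hcard : Nat.card {v : (P : Subgroup G) // v ≠ 1} = 8 := by
    have h1 := Nat.card_congr (Equiv.sumCompl (fun v : (P : Subgroup G) => v = 1))
    rw [Nat.card_sum, h.card] at h1
    have h2 : Nat.card {v : (P : Subgroup G) // v = 1} = 1 := by
      rw [Nat.card_eq_one_iff_unique]
      exact ⟨⟨fun a b => Subtype.ext (a.2.trans b.2.symm)⟩, ⟨⟨1, rfl⟩⟩⟩
    rw [h2] at h1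
    have h3 : Nat.card {v : (P : Subgroup G) // ¬ v = 1} = 8 := by omega
    exact h3
  have hbij := hf.bijective_of_nat_card_le (by rw [hE, hcard])
  obtain ⟨s, hs⟩ := hbij.2 ⟨⟨y, hy⟩, fun h => hy1 (congrArg Subtype.val h)⟩
  exact (Blocks.SylowColumns.fus P h.comm x' ⟨y, hy⟩).2 ⟨s, s.2, congrArg Subtype.val hs⟩

/-- The case of a regular automizer. -/
theorem eight (hM : IsPModular 3 M) {P : Sylow 3 G} (h : Nine P)
    (he : (Subgroup.centralizer ((P : Subgroup G) : Set G)).relIndex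
      (Subgroup.normalizer ((P : Subgroup G) : Set G)) = 8) :
    ∃ a : IrrCharacter G → ℤ,
      (∀ χ ∈ principalBlock M G, ¬ 3 ∣ charDegree (χ : G → ℂ) ∧
        ∀ g : G, 3 ∣ orderOf g → (χ : G → ℂ) g = a χ) ∧
      (Nat.card (principalBlock M G) = 6 ∨
        Nat.card (principalBlock M G) = 9 ∧ ∀ χ ∈ principalBlock M G, a χ = 1 ∨ a χ = -1) := by
  classical
  have hfinI : Finite (IrrCharacter G) := finite_irr
  have hMp : M.IsPrime := hM.2.1.isPrime
  have hfin : (principalBlock M G).Finite := Set.toFinite _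
  obtain ⟨x, hx, hx1⟩ := h.exists_ne
  have hconj : ∀ y ∈ (P : Subgroup G), y ≠ 1 → IsConj x y := fun y hy hy1 =>
    h.isConj he hx hy hx1 hy1
  have hx3 := h.exp x hx
  have hrat : ∀ χ : IrrCharacter G, ∃ v : ℤ, (χ : G → ℂ) x = v ∧
      (3 : ℤ) ∣ charDegree (χ : G → ℂ) - v := by
    intro χ
    obtain ⟨n, v, -, hv, -⟩ := SporadicA.M11CharBasic.rational_values (isIrr_isCharacter χ.2)
      Nat.prime_three hx3 (by
        intro k hk0 hk3
        have hk : k = 1 ∨ k = 2 := by omega
        rcases hk with rfl | rfl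
        · rw [pow_one]
        · refine hconj _ (pow_mem hx 2) fun h2 => hx1 ?_
          calc x = x ^ 3 * (x ^ 2)⁻¹ := by group
            _ = 1 := by rw [h2, hx3]; simp)
    exact ⟨v, hv, dvd_sub hx3 hv⟩
  choose a ha ha3 using hrat
  let o : IrrCharacter G := ⟨fun _ => 1, isIrr_one⟩
  have hoB : o ∈ principalBlock M G := Blocks.PrincipalSection.one_mem_principalBlock
  have hao : a o = 1 := by
    have h2 : (1 : ℂ) = (a o : ℂ) := ha o
    exact_mod_cast h2.symm
  have hclass : ∀ (χ : IrrCharacter G) (u v : G), IsConj u v → (χ : G → ℂ) u = (χ : G → ℂ) v := by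
    intro χ u v huv
    obtain ⟨c, hc⟩ := isConj_iff.1 huv
    rw [← hc]
    exact (isIrr_isClassFunction χ.2 _ _).symm
  -- values at singular elements
  have hval : ∀ χ ∈ principalBlock M G, ∀ g : G, 3 ∣ orderOf g → (χ : G → ℂ) g = a χ := by
    intro χ hχ g hg
    obtain ⟨y, hy⟩ := Blocks.PPart.exists_isPPart 3 g
    have hy1 : y ≠ 1 := by
      rintro rfl
      obtain ⟨v, hv, -, -, hvo⟩ := hy
      rw [one_mul] at hv
      rw [hv] at hvo
      exact hvo hg
    obtain ⟨-, -, -, ⟨k, hk⟩, -⟩ := id hy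
    have hpg : IsPGroup 3 (Subgroup.zpowers y) := IsPGroup.of_card (n := k) (by
      rw [Nat.card_zpowers, hk])
    obtain ⟨Q, hQ⟩ := hpg.exists_le_sylow
    obtain ⟨c, hc⟩ := MulAction.exists_smul_eq G Q P
    have hyP : c * y * c⁻¹ ∈ (P : Subgroup G) := by
      have h1 : y ∈ (Q : Subgroup G) := hQ (Subgroup.mem_zpowers y)
      rw [← hc]
      exact ⟨y, h1, rfl⟩
    have hy1' : c * y * c⁻¹ ≠ 1 := fun h0 => hy1 (by simpa using h0)
    have h1 := H656.FrobBlock.apply_eq_of_isPPart M hM P h.comm h.sr hχ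
      (Blocks.PPart.isPPart_conj hy c) hyP hy1'
    rw [isIrr_isClassFunction χ.2] at h1
    rw [h1, ← hclass χ x _ (hconj _ hyP hy1'), ha]
  -- the norm
  have hcol := Blocks.SylowColumns.columns M hM P h.comm h.sr hfin
  have hx1' : (⟨x, hx⟩ : (P : Subgroup G)) ≠ 1 := fun h => hx1 (congrArg Subtype.val h)
  have hnorm : ∑ χ ∈ hfin.toFinset, a χ ^ 2 = 9 := by
    have h1 := hcol ⟨x, hx⟩ ⟨x, hx⟩ hx1'
    rw [if_pos (IsConj.refl _), h.card] at h1
    have h2 : ((∑ χ ∈ hfin.toFinset, a χ ^ 2 : ℤ) : ℂ) = 9 := by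
      push_cast at h1 ⊢
      rw [← h1]
      refine Finset.sum_congr rfl fun χ _ => ?_
      rw [ha, map_intCast, sq]
    exact_mod_cast h2
  have horth : ∑ χ ∈ hfin.toFinset, a χ * (charDegree (χ : G → ℂ) : ℤ) = 0 := by
    have h1 := hcol ⟨x, hx⟩ 1 hx1'
    rw [if_neg (by
      intro h
      rw [isConj_comm, OneMemClass.coe_one, isConj_one_right] at h
      exact hx1 h)] at h1
    have h2 : ((∑ χ ∈ hfin.toFinset, a χ * (charDegree (χ : G → ℂ) : ℤ) : ℤ) : ℂ) = 0 := by
      push_cast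
      rw [← h1]
      refine Finset.sum_congr rfl fun χ _ => ?_
      rw [ha, OneMemClass.coe_one, (S0914.degree_spec χ).1, Complex.conj_natCast]
    exact_mod_cast h2
  -- no zeros
  have hne0 : ∀ χ ∈ principalBlock M G, a χ ≠ 0 := by
    intro χ hχ h0
    have hne : o ≠ χ := by
      rintro rfl
      rw [hao] at h0
      exact one_ne_zero h0
    obtain ⟨y, hy, hy1, hy0⟩ := H656.FrobBlock.exists_apply_ne_zero M hM P hχ hoB hne
    apply hy0
    rw [← hclass χ x y (hconj y hy hy1), ha, h0, Int.cast_zero]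
  have hS1 : 1 + ∑ χ ∈ hfin.toFinset.erase o, a χ ^ 2 = 9 := by
    rw [← hnorm, ← Finset.add_sum_erase _ _ (hfin.mem_toFinset.2 hoB), hao]
    norm_num
  have hcases : ∀ χ ∈ principalBlock M G, a χ = 1 ∨ a χ = -1 ∨ a χ = 2 ∨ a χ = -2 := by
    intro χ hχ
    by_cases hne : χ = o
    · rw [hne]; exact Or.inl hao
    have h3 : a χ ^ 2 ≤ ∑ χ ∈ hfin.toFinset.erase o, a χ ^ 2 :=
      Finset.single_le_sum (f := fun χ => a χ ^ 2) (fun _ _ => sq_nonneg _)
        (Finset.mem_erase.2 ⟨hne, hfin.mem_toFinset.2 hχ⟩)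
    have h4 := hne0 χ hχ
    have h5 : a χ ^ 2 ≤ 8 := by omega
    have h6 : -3 < a χ ∧ a χ < 3 := by constructor <;> nlinarith
    omega
  refine ⟨a, fun χ hχ => ⟨?_, hval χ hχ⟩, ?_⟩
  · intro hd
    have h2 : (3 : ℤ) ∣ a χ :=
      (Int.dvd_iff_dvd_of_dvd_sub (ha3 χ)).1 (by exact_mod_cast hd)
    rcases hcases χ hχ with h | h | h | h <;> rw [h] at h2 <;> norm_num at h2
  · -- counting
    set S := hfin.toFinset with hS
    have hkS : Nat.card (principalBlock M G) = S.card := Nat.card_eq_card_finite_toFinset hfin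
    set T := S.filter fun χ => a χ ^ 2 = 4 with hT
    have hone : ∀ χ ∈ S, a χ ^ 2 = 1 + 3 * (if a χ ^ 2 = 4 then 1 else 0) := by
      intro χ hχ
      rcases hcases χ (hfin.mem_toFinset.1 hχ) with h | h | h | h <;> rw [h] <;> norm_num
    have hcount : (S.card : ℤ) + 3 * T.card = 9 := by
      rw [← hnorm, Finset.sum_congr rfl hone, Finset.sum_add_distrib, ← Finset.mul_sum,
        Finset.sum_const, hT, Finset.card_filter]
      simp
    have hTS : T.card ≤ S.card := Finset.card_filter_le _ _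
    have hT3 : T.card = 0 ∨ T.card = 1 ∨ T.card = 2 := by omega
    rcases hT3 with h0 | h0 | h0
    · right
      refine ⟨by omega, fun χ hχ => ?_⟩
      rw [Finset.card_eq_zero, hT, Finset.filter_eq_empty_iff] at h0
      have h1 := h0 (hfin.mem_toFinset.2 hχ)
      rcases hcases χ hχ with h | h | h | h
      · exact Or.inl h
      · exact Or.inr h
      · rw [h] at h1; exact absurd rfl h1
      · rw [h] at h1; exact absurd rfl h1
    · left; omega
    · exfalso
      have h3 : S.card = 3 := by omega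
      have hoT : o ∉ T := by
        rw [hT, Finset.mem_filter, hao]
        norm_num
      have hins : insert o T = S := by
        apply Finset.eq_of_subset_of_card_le
        · intro χ hχ
          rw [Finset.mem_insert] at hχ
          rcases hχ with rfl | hχ
          · exact hfin.mem_toFinset.2 hoB
          · exact (Finset.mem_filter.1 hχ).1
        · rw [Finset.card_insert_of_notMem hoT, h0, h3]
      rw [← hins, Finset.sum_insert hoT, hao] at horth
      have ho1 : charDegree (o : G → ℂ) = 1 := by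
        have h1 := (S0914.degree_spec o).1
        have h2 : (1 : ℂ) = (charDegree (o : G → ℂ) : ℂ) := h1
        exact_mod_cast h2.symm
      rw [ho1] at horth
      have h2 : (2 : ℤ) ∣ ∑ χ ∈ T, a χ * (charDegree (χ : G → ℂ) : ℤ) := by
        refine Finset.dvd_sum fun χ hχ => Dvd.dvd.mul_right ?_ _
        obtain ⟨h5, h6⟩ := Finset.mem_filter.1 hχ
        rcases hcases χ (hfin.mem_toFinset.1 h5) with h | h | h | h
        · rw [h] at h6; norm_num at h6
        · rw [h] at h6; norm_num at h6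
        · rw [h]
        · rw [h]; norm_num
      have h3 : ∑ χ ∈ T, a χ * (charDegree (χ : G → ℂ) : ℤ) = -1 := by
        push_cast at horth
        linarith
      rw [h3] at h2
      norm_num at h2

end Cfsg.Agent.H657.NineBlock
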