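import Mathlib
import Cfsg.Prelude.Def_Transfer
import Cfsg.Agent.Transfer.ExtraspecialProduct
import Cfsg.Agent.H446.ExtraAct
import Cfsg.Agent.H657.NineBlock

/-!
# Images of a Sylow `3`-subgroup that is extraspecial of order `27` and exponent `3`

`P` is a Sylow `3`-subgroup of `G`, extraspecial of order `27` and exponent `3`, with
`N_G(P) ≤ C_G(Z(P))`, and `π : G → H` is onto with `P ∩ ker π = Z(P)`. Then the image of `P` is a Sylow
subgroup of `H` that satisfies `Nine`, and `|N_H(π P) : C_H(π P)| = |N_G(P) : P C_G(P)|`.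
-/

set_option autoImplicit false
set_option linter.unusedSectionVars false

open Subgroup Cfsg
open scoped commutatorElement

namespace Cfsg.Agent.H657.E27Local

/-- The normalizer of the image of a Sylow subgroup. -/
theorem exists_normalizer {G H : Type*} [Group G] [Finite G] [Group H] {p : ℕ} [Fact p.Prime]
    (P : Sylow p G) (π : G →* H) (hπ : Function.Surjective π) {h : H}
    (hh : h ∈ normalizer (((P : Subgroup G).map π : Subgroup H) : Set H)) :
    ∃ n ∈ normalizer ((P : Subgroup G) : Set G), π n = h := by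
  obtain ⟨g, rfl⟩ := hπ h
  set L : Subgroup G := ((P : Subgroup G).map π).comap π with hL
  have hPL : (P : Subgroup G) ≤ L := le_comap_map _ _
  have hgL : ((g • P : Sylow p G) : Subgroup G) ≤ L := by
    rintro _ ⟨x, hx, rfl⟩
    rw [hL, mem_comap]
    have h1 : π (g * x * g⁻¹) ∈ (P : Subgroup G).map π := by
      rw [map_mul, map_mul, map_inv]
      exact (mem_normalizer_iff.1 hh _).1 ⟨x, hx, rfl⟩
    exact h1
  obtain ⟨l, hl⟩ := MulAction.exists_smul_eq L ((g • P).subtype hgL) (P.subtype hPL)
  have h1 : (l : G) • (g • P) = P := by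
    rw [Sylow.smul_subtype] at hl
    exact Sylow.subtype_injective hl
  rw [← mul_smul, Sylow.smul_eq_iff_mem_normalizer] at h1
  obtain ⟨x, hx, hxl⟩ := l.2
  refine ⟨x⁻¹ * ((l : G) * g), mul_mem (inv_mem (le_normalizer hx)) h1, ?_⟩
  rw [map_mul, map_mul, map_inv, hxl]
  group

theorem normalizer_map {G H : Type*} [Group G] [Finite G] [Group H] {p : ℕ} [Fact p.Prime]
    (P : Sylow p G) (π : G →* H) (hπ : Function.Surjective π) :
    normalizer (((P : Subgroup G).map π : Subgroup H) : Set H) =
      (normalizer ((P : Subgroup G) : Set G)).map π := by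
  apply le_antisymm
  · intro h hh
    obtain ⟨n, hn, hnh⟩ := exists_normalizer P π hπ hh
    exact ⟨n, hn, hnh⟩
  · exact le_normalizer_map π

variable {G : Type*} [Group G] [Finite G] {H : Type*} [Group H]

theorem comm_central {P : Subgroup G} (hE : IsExtraspecial 3 P) {x y w : G} (hx : x ∈ P)
    (hy : y ∈ P) (hw : w ∈ P) : (x * y * x⁻¹ * y⁻¹) * w = w * (x * y * x⁻¹ * y⁻¹) := by
  have h1 : ⁅(⟨x, hx⟩ : P), (⟨y, hy⟩ : P)⁆ ∈ center P := by
    rw [← hE.1.2.2]
    exact commutator_mem_commutator (mem_top _) (mem_top _)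
  have h2 := mem_center_iff.1 h1 ⟨w, hw⟩
  exact (congrArg Subtype.val h2).symm

theorem card_map {P : Subgroup G} (hE : IsExtraspecial 3 P) (h27 : Nat.card P = 27)
    (π : G →* H) (hker : ∀ x ∈ P, π x = 1 ↔ ∀ y ∈ P, x * y = y * x) :
    Nat.card (P.map π) = 9 := by
  have h1 : (π.comp P.subtype).ker = center P := by
    ext x
    rw [MonoidHom.mem_ker, mem_center_iff]
    have h2 := hker x x.2
    constructor
    · intro h y
      exact Subtype.ext (h2.1 h y y.2).symm
    · intro h
      exact h2.2 fun y hy => (congrArg Subtype.val (h ⟨y, hy⟩)).symm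
  have h2 : (π.comp P.subtype).range = P.map π := by
    rw [MonoidHom.range_comp, range_subtype]
  have h3 := index_ker (π.comp P.subtype)
  have h4 := card_mul_index (center P)
  rw [h1, h2] at h3
  rw [hE.2, h27, h3] at h4
  omega

/-- The image is abelian. -/
theorem map_comm {P : Subgroup G} (hE : IsExtraspecial 3 P) (π : G →* H)
    (hker : ∀ x ∈ P, π x = 1 ↔ ∀ y ∈ P, x * y = y * x) {x y : G} (hx : x ∈ P) (hy : y ∈ P) :
    π x * π y = π y * π x := by
  have h1 : x * y * x⁻¹ * y⁻¹ ∈ P := mul_mem (mul_mem (mul_mem hx hy) (inv_mem hx)) (inv_mem hy)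
  have h2 := (hker _ h1).2 fun w hw => comm_central hE hx hy hw
  have h3 : π x * π y * (π x)⁻¹ * (π y)⁻¹ = 1 := by simpa [map_mul, map_inv] using h2
  rw [mul_inv_eq_one, mul_inv_eq_iff_eq_mul] at h3
  exact h3

/-- The preimage in `N_G(P)` of the centralizer of the image. -/
theorem comap_inf {P : Subgroup G} (hE : IsExtraspecial 3 P) (π : G →* H)
    (hker : ∀ x ∈ P, π x = 1 ↔ ∀ y ∈ P, x * y = y * x) :
    (centralizer ((P.map π : Subgroup H) : Set H)).comap π ⊓ normalizer (P : Set G) =
      P ⊔ centralizer (P : Set G) := by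
  have hcen : ∀ {g : G}, g ∈ (centralizer ((P.map π : Subgroup H) : Set H)).comap π ↔
      ∀ x ∈ P, π x * π g = π g * π x := by
    intro g
    rw [mem_comap, mem_centralizer_iff]
    constructor
    · intro h x hx
      exact h _ ⟨x, hx, rfl⟩
    · rintro h _ ⟨x, hx, rfl⟩
      exact h x hx
  have hPle : P ≤ (centralizer ((P.map π : Subgroup H) : Set H)).comap π ⊓
      normalizer (P : Set G) := by
    refine le_inf (fun x hx => ?_) le_normalizer
    rw [hcen]
    exact fun y hy => map_comm hE π hker hy hx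
  apply le_antisymm
  · set K := (centralizer ((P.map π : Subgroup H) : Set H)).comap π ⊓ normalizer (P : Set G) with hK
    have hE' : IsExtraspecial 3 (P.subgroupOf K) :=
      H446.ExtraAct.isExtraspecial_of_equiv (subgroupOfEquivOfLe hPle).symm hE
    have h1 : ⁅(⊤ : Subgroup K), P.subgroupOf K⁆ ≤
        P.subgroupOf K ⊓ centralizer (P.subgroupOf K : Set K) := by
      rw [commutator_le]
      intro k _ x hx
      rw [mem_subgroupOf] at hx
      have hkK : (k : G) ∈ (centralizer ((P.map π : Subgroup H) : Set H)).comap π ⊓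
        normalizer (P : Set G) := k.2
      rw [mem_inf, hcen] at hkK
      have h2 : (k : G) * x * (k : G)⁻¹ * (x : G)⁻¹ ∈ P :=
        mul_mem ((mem_normalizer_iff.1 hkK.2 _).1 hx) (inv_mem hx)
      have h3 : π ((k : G) * x * (k : G)⁻¹ * (x : G)⁻¹) = 1 := by
        have h4 := hkK.1 x hx
        rw [map_mul, map_mul, map_mul, map_inv, map_inv, ← h4]
        group
      have h5 := (hker _ h2).1 h3
      refine mem_inf.2 ⟨h2, ?_⟩
      rw [mem_centralizer_iff]
      intro y hy
      exact Subtype.ext (h5 y hy).symm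
    have h6 := Transfer.ExtraspecialProduct.sup_centralizer_eq_top (P.subgroupOf K) hE' h1
    intro n hn
    have h7 : (⟨n, hn⟩ : K) ∈ P.subgroupOf K ⊔ centralizer (P.subgroupOf K : Set K) := by
      rw [h6]; exact mem_top _
    have h8 : (P.subgroupOf K ⊔ centralizer (P.subgroupOf K : Set K)).map K.subtype ≤
        P ⊔ centralizer (P : Set G) := by
      rw [Subgroup.map_sup]
      refine sup_le_sup ?_ ?_
      · rintro _ ⟨x, hx, rfl⟩
        exact hx
      · rintro _ ⟨x, hx, rfl⟩
        rw [mem_centralizer_iff]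
        intro y hy
        exact congrArg Subtype.val (mem_centralizer_iff.1 hx ⟨y, hPle hy⟩ hy)
    exact h8 ⟨_, h7, rfl⟩
  · refine sup_le hPle fun c hc => mem_inf.2 ⟨?_, ?_⟩
    · rw [hcen]
      intro x hx
      rw [← map_mul, ← map_mul, mem_centralizer_iff.1 hc x hx]
    · exact H590.StLink.centralizer_le_normalizer' P hc

/-- The inertial index. -/
theorem relIndex_eq (P : Sylow 3 G) (hE : IsExtraspecial 3 (P : Subgroup G)) (π : G →* H)
    (hπ : Function.Surjective π)
    (hker : ∀ x ∈ (P : Subgroup G), π x = 1 ↔ ∀ y ∈ (P : Subgroup G), x * y = y * x) :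
    (centralizer (((P : Subgroup G).map π : Subgroup H) : Set H)).relIndex
      (normalizer (((P : Subgroup G).map π : Subgroup H) : Set H)) =
    ((P : Subgroup G) ⊔ centralizer ((P : Subgroup G) : Set G)).relIndex
      (normalizer ((P : Subgroup G) : Set G)) := by
  rw [normalizer_map P π hπ, ← relIndex_comap, ← inf_relIndex_right, comap_inf hE π hker]

/-- The structure of the image. -/
theorem nine (P : Sylow 3 G) (hE : IsExtraspecial 3 (P : Subgroup G))
    (h27 : Nat.card (P : Subgroup G) = 27) (hexp : ∀ x ∈ (P : Subgroup G), x ^ 3 = 1)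
    (hNC : ∀ g ∈ normalizer ((P : Subgroup G) : Set G), ∀ z ∈ (P : Subgroup G),
      (∀ y ∈ (P : Subgroup G), z * y = y * z) → g * z = z * g) (π : G →* H)
    (hπ : Function.Surjective π)
    (hker : ∀ x ∈ (P : Subgroup G), π x = 1 ↔ ∀ y ∈ (P : Subgroup G), x * y = y * x) :
    NineBlock.Nine (P.mapSurjective hπ) := by
  have hfinH : Finite H := Finite.of_surjective π hπ
  have hcard := card_map hE h27 π hker
  refine ⟨hcard, ?_, ?_, ?_⟩
  · rintro _ ⟨x, hx, rfl⟩
    rw [← map_pow, hexp x hx, map_one]
  · rintro ⟨_, x, hx, rfl⟩ ⟨_, y, hy, rfl⟩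
    exact Subtype.ext (map_comm hE π hker hx hy)
  · intro z hz hz1
    apply le_antisymm
    swap
    · refine le_inf (centralizer_le ?_) (H590.StLink.centralizer_le_normalizer' _)
      rw [Set.singleton_subset_iff]
      exact hz
    rintro h hh
    obtain ⟨hh1, hh2⟩ := mem_inf.1 hh
    rw [mem_centralizer_singleton_iff] at hh1
    obtain ⟨n, hn, rfl⟩ := exists_normalizer P π hπ hh2
    obtain ⟨x, hx, rfl⟩ := hz
    -- `c = n x n⁻¹ x⁻¹` is central
    have hnx : n * x * n⁻¹ ∈ (P : Subgroup G) := (mem_normalizer_iff.1 hn x).1 hx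
    have hc : n * x * n⁻¹ * x⁻¹ ∈ (P : Subgroup G) := mul_mem hnx (inv_mem hx)
    have hc1 : π (n * x * n⁻¹ * x⁻¹) = 1 := by
      have h1 : π n * π x = π x * π n := hh1
      rw [map_mul, map_mul, map_mul, map_inv, map_inv, h1]
      group
    have hcc := (hker _ hc).1 hc1
    -- `n y n⁻¹ y⁻¹` centralizes `x`
    have hyx : ∀ y ∈ (P : Subgroup G), n * y * n⁻¹ * y⁻¹ ∈ (P : Subgroup G) ∧
        (n * y * n⁻¹ * y⁻¹) * x = x * (n * y * n⁻¹ * y⁻¹) := by
      intro y hy
      have hny : n * y * n⁻¹ ∈ (P : Subgroup G) := (mem_normalizer_iff.1 hn y).1 hy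
      refine ⟨mul_mem hny (inv_mem hy), ?_⟩
      -- `[x, n y n⁻¹] = [x, y]`
      set w := x * y * x⁻¹ * y⁻¹ with hw
      have hwP : w ∈ (P : Subgroup G) :=
        mul_mem (mul_mem (mul_mem hx hy) (inv_mem hx)) (inv_mem hy)
      have hwc : ∀ v ∈ (P : Subgroup G), w * v = v * w := fun v hv => comm_central hE hx hy hv
      have hnw : n * w = w * n := hNC n hn w hwP hwc
      set c := n * x * n⁻¹ * x⁻¹ with hcdef
      set y' := n * y * n⁻¹ with hy'
      have e1 : n * x * n⁻¹ = c * x := by rw [hcdef]; group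
      have e2 : w = (c * x) * y' * (c * x)⁻¹ * y'⁻¹ := by
        have h1 : n * w * n⁻¹ = w := by rw [hnw]; group
        rw [← h1, hw, ← e1, hy']
        group
      have e3 : w = x * y' * x⁻¹ * y'⁻¹ := by
        have h1 : c * (x * y') = (x * y') * c := hcc _ (mul_mem hx hny)
        calc w = (c * x) * y' * (c * x)⁻¹ * y'⁻¹ := e2
          _ = c * (x * y') * x⁻¹ * c⁻¹ * y'⁻¹ := by group
          _ = (x * y') * c * x⁻¹ * c⁻¹ * y'⁻¹ := by rw [h1]
          _ = (x * y') * (c * x⁻¹) * c⁻¹ * y'⁻¹ := by group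
          _ = (x * y') * (x⁻¹ * c) * c⁻¹ * y'⁻¹ := by rw [hcc _ (inv_mem hx)]
          _ = x * y' * x⁻¹ * y'⁻¹ := by group
      -- `x y x⁻¹ = w y`, `x y' x⁻¹ = w y'`
      have e4 : x * y * x⁻¹ = w * y := by rw [hw]; group
      have e5 : x * y' * x⁻¹ = w * y' := by rw [e3]; group
      have e6 : x * (y' * y⁻¹) * x⁻¹ = y' * y⁻¹ := by
        calc x * (y' * y⁻¹) * x⁻¹ = (x * y' * x⁻¹) * (x * y * x⁻¹)⁻¹ := by group
          _ = (w * y') * (w * y)⁻¹ := by rw [e4, e5]
          _ = (w * (y' * y⁻¹)) * w⁻¹ := by group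
          _ = ((y' * y⁻¹) * w) * w⁻¹ := by rw [hwc _ (mul_mem hny (inv_mem hy))]
          _ = y' * y⁻¹ := by group
      rw [mul_inv_eq_iff_eq_mul] at e6
      exact e6.symm
    -- the image of `C_P(x)`
    set F : Subgroup H := ((P : Subgroup G) ⊓ centralizer ({x} : Set G)).map π with hF
    have hFQ : F ≤ (P : Subgroup G).map π := map_mono inf_le_left
    have hxF : π x ∈ F := ⟨x, mem_inf.2 ⟨hx, by rw [mem_centralizer_singleton_iff]⟩, rfl⟩
    have hFne : F ≠ (P : Subgroup G).map π := by
      intro h1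
      apply hz1
      rw [hker x hx]
      intro y hy
      have h2 : π y ∈ F := by rw [h1]; exact ⟨y, hy, rfl⟩
      obtain ⟨c, hc, hcy⟩ := h2
      obtain ⟨hcP, hcx⟩ := mem_inf.1 hc
      rw [mem_centralizer_singleton_iff] at hcx
      have h3 : π (c⁻¹ * y) = 1 := by rw [map_mul, map_inv, hcy]; group
      have h4 := (hker _ (mul_mem (inv_mem hcP) hy)).1 h3 x hx
      calc x * y = (x * c) * (c⁻¹ * y) := by group
        _ = (c * x) * (c⁻¹ * y) := by rw [hcx]
        _ = c * (x * (c⁻¹ * y)) := by group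
        _ = c * ((c⁻¹ * y) * x) := by rw [h4]
        _ = y * x := by group
    have hFcard : Nat.card F = 3 := by
      have h1 : Nat.card F ∣ 9 := by
        rw [← hcard]
        exact card_dvd_of_le hFQ
      have h2 : Nat.card F ≠ 9 := by
        intro h2
        apply hFne
        apply SetLike.coe_injective
        apply Set.eq_of_subset_of_ncard_le hFQ
        rw [← Nat.card_coe_set_eq, ← Nat.card_coe_set_eq]
        exact (hcard.trans h2.symm).le
      have h3 : Nat.card F ≠ 1 := by
        intro h3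
        rw [card_eq_one] at h3
        rw [h3, mem_bot] at hxF
        exact hz1 hxF
      have h4 : Nat.card F ≤ 9 := Nat.le_of_dvd (by norm_num) h1
      interval_cases Nat.card F <;> omega
    have hox : orderOf (π x) = 3 := by
      refine orderOf_eq_prime ?_ hz1
      rw [← map_pow, hexp x hx, map_one]
    have hFz : F = zpowers (π x) := by
      symm
      apply SetLike.coe_injective
      have h1 : zpowers (π x) ≤ F := by rwa [zpowers_le]
      apply Set.eq_of_subset_of_ncard_le h1
      rw [← Nat.card_coe_set_eq, ← Nat.card_coe_set_eq]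
      exact (hFcard.trans (by rw [← hox]; exact (Nat.card_zpowers _).symm)).le
    -- `π n` acts on the image as a unipotent element
    have hcomm : ∀ q ∈ (P : Subgroup G).map π, ∃ f ∈ F, π n * q * (π n)⁻¹ = f * q ∧
        π n * f = f * π n ∧ f * q = q * f ∧ f ^ 3 = 1 := by
      rintro _ ⟨y, hy, rfl⟩
      obtain ⟨h1, h2⟩ := hyx y hy
      have hf : π (n * y * n⁻¹ * y⁻¹) ∈ F :=
        ⟨_, mem_inf.2 ⟨h1, by rw [mem_centralizer_singleton_iff]; exact h2⟩, rfl⟩
      refine ⟨_, hf, ?_, ?_, map_comm hE π hker h1 hy, ?_⟩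
      · rw [map_mul _ (n * y * n⁻¹), map_mul, map_mul, map_inv, map_inv]
        group
      · rw [hFz] at hf
        obtain ⟨k, hk⟩ := mem_zpowers_iff.1 hf
        rw [← hk]
        exact (Commute.zpow_right (show Commute (π n) (π x) from hh1) k).eq
      · rw [← map_pow, hexp _ h1, map_one]
    have hcube : (π n) ^ 3 ∈ centralizer (((P : Subgroup G).map π : Subgroup H) : Set H) := by
      rw [mem_centralizer_iff]
      intro q hq
      obtain ⟨f, hf, h1, h2, h3, h4⟩ := hcomm q hq
      set m := π n
      have e1 : m * q = f * q * m := by rw [← h1]; group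
      have e2 : m ^ 3 * q = q * m ^ 3 := by
        calc m ^ 3 * q = m * (m * (m * q)) := by simp only [pow_succ, pow_zero, one_mul, mul_assoc]
          _ = m * (m * (f * q * m)) := by rw [e1]
          _ = m * ((m * f) * q * m) := by group
          _ = m * (f * (m * q) * m) := by rw [h2]; group
          _ = m * (f * (f * q * m) * m) := by rw [e1]
          _ = (m * f) * f * q * m * m := by group
          _ = (f * m) * f * q * m * m := by rw [h2]
          _ = f * (m * f) * q * m * m := by group
          _ = f * (f * m) * q * m * m := by rw [h2]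
          _ = f * f * (m * q) * m * m := by group
          _ = f * f * (f * q * m) * m * m := by rw [e1]
          _ = f ^ 3 * q * m ^ 3 := by simp only [pow_succ, pow_zero, one_mul, mul_assoc]
          _ = q * m ^ 3 := by rw [h4, one_mul]
      exact e2.symm
    -- the index is prime to `3`
    have hidx : ¬ 3 ∣ (centralizer (((P : Subgroup G).map π : Subgroup H) : Set H)).relIndex
        (normalizer (((P : Subgroup G).map π : Subgroup H) : Set H)) := by
      intro hd
      have h1 : (P : Subgroup G).map π ≤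
          centralizer (((P : Subgroup G).map π : Subgroup H) : Set H) := by
        rintro _ ⟨x, hx, rfl⟩
        rw [mem_centralizer_iff]
        rintro _ ⟨y, hy, rfl⟩
        exact map_comm hE π hker hy hx
      have h2 : (centralizer (((P : Subgroup G).map π : Subgroup H) : Set H)).relIndex
          (normalizer (((P : Subgroup G).map π : Subgroup H) : Set H)) ∣
            ((P : Subgroup G).map π).index :=
        (relIndex_dvd_index_of_le
          (H590.StLink.centralizer_le_normalizer' _)).trans (index_dvd_of_le h1)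
      exact (P.mapSurjective hπ).not_dvd_index (hd.trans h2)
    -- conclusion in the quotient
    have hle := H590.StLink.centralizer_le_normalizer' ((P : Subgroup G).map π)
    set C := centralizer (((P : Subgroup G).map π : Subgroup H) : Set H) with hC
    set N := normalizer (((P : Subgroup G).map π : Subgroup H) : Set H) with hN
    have hnorm : (C.subgroupOf N).Normal := by
      constructor
      intro a ha b
      rw [mem_subgroupOf, hC, mem_centralizer_iff] at ha ⊢
      intro q hq
      have hb := mem_normalizer_iff.1 (inv_mem b.2) q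
      have h1 := ha _ (hb.1 hq)
      have h2 : (b : H)⁻¹ * q * ((b : H)⁻¹)⁻¹ * (a : H) = a * ((b : H)⁻¹ * q * ((b : H)⁻¹)⁻¹) := h1
      rw [inv_inv] at h2
      change q * ((b : H) * a * (b : H)⁻¹) = (b : H) * a * (b : H)⁻¹ * q
      calc q * ((b : H) * a * (b : H)⁻¹) = b * ((b : H)⁻¹ * q * b * a) * (b : H)⁻¹ := by group
        _ = b * (a * ((b : H)⁻¹ * q * b)) * (b : H)⁻¹ := by rw [h2]
        _ = (b : H) * a * (b : H)⁻¹ * q := by group
    have h1 : (QuotientGroup.mk (⟨π n, hh2⟩ : N) : N ⧸ C.subgroupOf N) ^ 3 = 1 := by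
      rw [← QuotientGroup.mk_pow, QuotientGroup.eq_one_iff]
      exact hcube
    have h2 : orderOf (QuotientGroup.mk (⟨π n, hh2⟩ : N) : N ⧸ C.subgroupOf N) ∣
        Nat.card (N ⧸ C.subgroupOf N) := orderOf_dvd_natCard _
    have h3 : orderOf (QuotientGroup.mk (⟨π n, hh2⟩ : N) : N ⧸ C.subgroupOf N) = 1 := by
      rcases (Nat.dvd_prime Nat.prime_three).1 (orderOf_dvd_of_pow_eq_one h1) with h | h
      · exact h
      · rw [h] at h2
        exact absurd h2 hidx
    rw [orderOf_eq_one_iff, QuotientGroup.eq_one_iff] at h3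
    exact h3

end Cfsg.Agent.H657.E27Local
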