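import Mathlib
import Cfsg.Prelude.Def_Blocks
import Cfsg.Prelude.Def_BlockRank
import Cfsg.Prelude.Def_Transfer
import Cfsg.Prelude.Def_IsolatedElements
import Cfsg.Agent.H657.NineBlock
import Cfsg.Agent.H657.E27Local
import Cfsg.Agent.H657.PrinQuot

/-!
# The principal `3`-block for an extraspecial Sylow `3`-subgroup of order `27` and exponent `3`

The assembly: from `InZStar 3 z` and the facts on central extensions to the invariants.
-/

set_option autoImplicit false
set_option linter.unusedSectionVars false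

open Subgroup Cfsg

namespace Cfsg.Agent.H657.E27Main

universe u

/-- What is needed about the central extension. -/
structure Central (M : Ideal AlgInt) (K : Type u) [Group K] (w : K) [(zpowers w).Normal] : Prop where
  rank : blockRank 3 (principalBlock M K) = blockRank 3 (principalBlock M (K ⧸ zpowers w))
  card : Nat.card (principalBlock M K) = Nat.card (principalBlock M (K ⧸ zpowers w)) +
    2 * blockRank 3 (principalBlock M K)
  height : (∀ χ ∈ principalBlock M (K ⧸ zpowers w), ¬ 3 ∣ charDegree (χ : K ⧸ zpowers w → ℂ)) →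
    Nat.card {χ : IrrCharacter K // χ ∈ principalBlock M K ∧
      blockHeight 3 (principalBlock M K) (χ : K → ℂ) = 0} =
    Nat.card (principalBlock M (K ⧸ zpowers w))
  nine : Nat.card (principalBlock M (K ⧸ zpowers w)) = 9 → ∀ eps : IrrCharacter (K ⧸ zpowers w) → ℤ,
    (∀ χ ∈ principalBlock M (K ⧸ zpowers w), eps χ = 1 ∨ eps χ = -1) →
    (∀ χ ∈ principalBlock M (K ⧸ zpowers w), ∀ h : K ⧸ zpowers w, 3 ∣ orderOf h →
      (χ : K ⧸ zpowers w → ℂ) h = eps χ) → False

/-- The hypotheses on the central extension. -/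
structure Data {K : Type u} [Group K] (R : Sylow 3 K) (w : K) : Prop where
  center : w ∈ Subgroup.center K
  order : orderOf w = 3
  card : Nat.card (R : Subgroup K) = 27
  exp : ∀ x ∈ (R : Subgroup K), x ^ 3 = 1
  conj : ∀ x ∈ (R : Subgroup K), x ∉ zpowers w → ∃ g : K, g * x * g⁻¹ = x * w

variable {G : Type u} [Group G] [Finite G] (P : Sylow 3 G)

/-- The center of `P`. -/
theorem mem_zpowers_of {P : Subgroup G} (hE : IsExtraspecial 3 P) {z : G} (hz : z ∈ P)
    (hz1 : z ≠ 1) (hzc : ∀ y ∈ P, z * y = y * z) {x : G} (hx : x ∈ P)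
    (hxc : ∀ y ∈ P, x * y = y * x) : x ∈ zpowers z := by
  have hcen : ∀ {y : G} (hy : y ∈ P), (∀ v ∈ P, y * v = v * y) → (⟨y, hy⟩ : P) ∈ center P := by
    intro y hy h
    rw [mem_center_iff]
    exact fun v => Subtype.ext (h v v.2).symm
  have h1 : zpowers (⟨z, hz⟩ : P) = center P := by
    have h2 : zpowers (⟨z, hz⟩ : P) ≤ center P := by
      rw [zpowers_le]
      exact hcen hz hzc
    apply SetLike.coe_injective
    apply Set.eq_of_subset_of_ncard_le h2
    rw [← Nat.card_coe_set_eq, ← Nat.card_coe_set_eq]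
    have h3 : Nat.card (zpowers (⟨z, hz⟩ : P)) ∣ 3 := by
      rw [← hE.2]
      exact card_dvd_of_le h2
    have h4 : Nat.card (zpowers (⟨z, hz⟩ : P)) ≠ 1 := by
      intro h5
      rw [card_eq_one, zpowers_eq_bot] at h5
      exact hz1 (congrArg Subtype.val h5)
    have h5 : Nat.card (zpowers (⟨z, hz⟩ : P)) = 3 :=
      ((Nat.dvd_prime Nat.prime_three).1 h3).resolve_left h4
    exact (hE.2.trans h5.symm).le
  have h2 := hcen hx hxc
  rw [← h1, mem_zpowers_iff] at h2
  obtain ⟨k, hk⟩ := h2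
  exact mem_zpowers_iff.2 ⟨k, congrArg Subtype.val hk⟩

theorem exists_central {P : Subgroup G} (hE : IsExtraspecial 3 P) :
    ∃ z ∈ P, z ≠ 1 ∧ ∀ y ∈ P, z * y = y * z := by
  have h1 : Nontrivial (center P) := by
    rw [← Finite.one_lt_card_iff_nontrivial, hE.2]
    norm_num
  obtain ⟨z, hz⟩ := exists_ne (1 : center P)
  refine ⟨z, (z : P).2, fun h => hz (Subtype.ext (Subtype.ext h)), fun y hy => ?_⟩
  exact (congrArg Subtype.val (mem_center_iff.1 z.2 ⟨y, hy⟩)).symm

/-- The kernel of `P → G / O_{3'}(G)` is trivial. -/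
theorem eq_one_of_mem {x : G} (hx : x ∈ (P : Subgroup G)) (hxN : x ∈ pPrimeCore 3 G) : x = 1 := by
  obtain ⟨k, hk⟩ := P.isPGroup' ⟨x, hx⟩
  have hk' : x ^ 3 ^ k = 1 := by simpa using congrArg Subtype.val hk
  have h1 : orderOf x ∣ 3 ^ k := orderOf_dvd_of_pow_eq_one hk'
  have h2 : orderOf x ∣ Nat.card (pPrimeCore 3 G) := by
    have := orderOf_dvd_natCard (⟨x, hxN⟩ : pPrimeCore 3 G)
    rwa [← orderOf_coe] at this
  have h3 : Nat.Coprime (3 ^ k) (Nat.card (pPrimeCore 3 G)) :=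
    Nat.Coprime.pow_left _ (Lib.Cores.pPrimeCore_coprime (G := G) 3).symm
  exact orderOf_eq_one_iff.1 (Nat.eq_one_of_dvd_coprimes h3 h1 h2)

/-- The data of the central extension. -/
theorem data (hE : IsExtraspecial 3 (P : Subgroup G)) (h27 : Nat.card (P : Subgroup G) = 27)
    (hexp : ∀ x ∈ (P : Subgroup G), x ^ 3 = 1) {z : G} (hz : z ∈ (P : Subgroup G)) (hz1 : z ≠ 1)
    (hzc : ∀ y ∈ (P : Subgroup G), z * y = y * z) (hZ : InZStar 3 z) :
    Data (P.mapSurjective (QuotientGroup.mk'_surjective (pPrimeCore 3 G)))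
      (QuotientGroup.mk z : G ⧸ pPrimeCore 3 G) := by
  set N := pPrimeCore 3 G with hN
  have hinj : ∀ x ∈ (P : Subgroup G), (QuotientGroup.mk x : G ⧸ N) = 1 → x = 1 := by
    intro x hx h
    rw [QuotientGroup.eq_one_iff] at h
    exact eq_one_of_mem P hx h
  refine ⟨?_, ?_, ?_, ?_, ?_⟩
  · rw [mem_center_iff]
    intro g
    obtain ⟨g, rfl⟩ := QuotientGroup.mk_surjective g
    have h1 : (QuotientGroup.mk (g * z * g⁻¹ * z⁻¹) : G ⧸ N) = 1 := by
      rw [QuotientGroup.eq_one_iff]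
      exact hZ g
    simp only [QuotientGroup.mk_mul, QuotientGroup.mk_inv] at h1
    rw [mul_inv_eq_one, mul_inv_eq_iff_eq_mul] at h1
    exact h1
  · refine orderOf_eq_prime ?_ fun h => hz1 (hinj z hz h)
    rw [← QuotientGroup.mk_pow, hexp z hz, QuotientGroup.mk_one]
  · have h1 : ((P : Subgroup G) ⊓ N) = ⊥ := by
      rw [eq_bot_iff]
      intro x hx
      exact mem_bot.2 (eq_one_of_mem P hx.1 hx.2)
    have h2 : Function.Injective ((QuotientGroup.mk' N).comp (P : Subgroup G).subtype) := by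
      rw [injective_iff_map_eq_one]
      intro x hx
      exact Subtype.ext (hinj x x.2 hx)
    have h3 : ((QuotientGroup.mk' N).comp (P : Subgroup G).subtype).range =
        (P : Subgroup G).map (QuotientGroup.mk' N) := by
      rw [MonoidHom.range_comp, range_subtype]
    rw [Sylow.coe_mapSurjective, ← h3, ← h27]
    exact (Nat.card_congr (MonoidHom.ofInjective h2).toEquiv).symm
  · rintro _ ⟨x, hx, rfl⟩
    rw [← map_pow, hexp x hx, map_one]
  · rintro _ ⟨x, hx, rfl⟩ hxz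
    have hxc : ¬ ∀ y ∈ (P : Subgroup G), x * y = y * x := by
      intro h
      obtain ⟨k, hk⟩ := mem_zpowers_iff.1 (mem_zpowers_of hE hz hz1 hzc hx h)
      apply hxz
      rw [← hk]
      exact mem_zpowers_iff.2 ⟨k, rfl⟩
    push Not at hxc
    obtain ⟨y, hy, hxy⟩ := hxc
    set w := y * x * y⁻¹ * x⁻¹ with hw
    have hwP : w ∈ (P : Subgroup G) := mul_mem (mul_mem (mul_mem hy hx) (inv_mem hy)) (inv_mem hx)
    have hwc : ∀ v ∈ (P : Subgroup G), w * v = v * w := fun v hv =>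
      E27Local.comm_central hE hy hx hv
    have hw1 : w ≠ 1 := by
      intro h
      rw [hw, mul_inv_eq_one, mul_inv_eq_iff_eq_mul] at h
      exact hxy h.symm
    obtain ⟨k, hk⟩ := mem_zpowers_iff.1 (mem_zpowers_of hE hwP hw1 hwc hz hzc)
    have h1 : y * x * y⁻¹ = w * x := by rw [hw]; group
    have h2 : ∀ n : ℕ, y ^ n * x * (y ^ n)⁻¹ = w ^ n * x := by
      intro n
      induction n with
      | zero => simp
      | succ n ih =>
        have h3 : y * w = w * y := (hwc y hy).symm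
        have h4 : y * w ^ n = w ^ n * y := (Commute.pow_right h3 n).eq
        calc y ^ (n + 1) * x * (y ^ (n + 1))⁻¹ = y * (y ^ n * x * (y ^ n)⁻¹) * y⁻¹ := by
              rw [pow_succ']; group
          _ = y * (w ^ n * x) * y⁻¹ := by rw [ih]
          _ = (y * w ^ n) * x * y⁻¹ := by group
          _ = w ^ n * (y * x * y⁻¹) := by rw [h4]; group
          _ = w ^ (n + 1) * x := by rw [h1, ← mul_assoc, ← pow_succ]
    have hk' : ∃ n : ℕ, w ^ n = z := by
      have h3 := hexp w hwP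
      refine ⟨(k % 3).toNat, ?_⟩
      rw [← hk, ← zpow_natCast, Int.toNat_of_nonneg (Int.emod_nonneg _ (by norm_num))]
      conv_rhs => rw [← Int.emod_add_mul_ediv k 3, zpow_add, zpow_mul]
      have h4 : w ^ (3 : ℤ) = 1 := by exact_mod_cast h3
      rw [h4, one_zpow, mul_one]
    obtain ⟨n, hn⟩ := hk'
    refine ⟨QuotientGroup.mk (y ^ n), ?_⟩
    have h5 := h2 n
    rw [hn, hzc x hx] at h5
    exact congrArg (QuotientGroup.mk : G → G ⧸ N) h5

/-- The kernel of the map to the quotient of `G / O_{3'}(G)` by the image of `z`. -/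
theorem map_eq_one_iff (hE : IsExtraspecial 3 (P : Subgroup G)) {z : G}
    (hz : z ∈ (P : Subgroup G)) (hz1 : z ≠ 1) (hzc : ∀ y ∈ (P : Subgroup G), z * y = y * z)
    [(zpowers (QuotientGroup.mk z : G ⧸ pPrimeCore 3 G)).Normal] {x : G}
    (hx : x ∈ (P : Subgroup G)) :
    ((QuotientGroup.mk' (zpowers (QuotientGroup.mk z : G ⧸ pPrimeCore 3 G))).comp
      (QuotientGroup.mk' (pPrimeCore 3 G))) x = 1 ↔ ∀ y ∈ (P : Subgroup G), x * y = y * x := by
  rw [MonoidHom.comp_apply, QuotientGroup.mk'_apply, QuotientGroup.eq_one_iff,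
    QuotientGroup.mk'_apply]
  constructor
  · intro h
    obtain ⟨k, hk⟩ := mem_zpowers_iff.1 h
    have h1 : (QuotientGroup.mk ((z ^ k)⁻¹ * x) : G ⧸ pPrimeCore 3 G) = 1 := by
      rw [QuotientGroup.mk_mul, QuotientGroup.mk_inv, QuotientGroup.mk_zpow, hk]
      group
    rw [QuotientGroup.eq_one_iff] at h1
    have h2 := eq_one_of_mem P (mul_mem (inv_mem (zpow_mem hz k)) hx) h1
    rw [inv_mul_eq_one] at h2
    intro y hy
    rw [← h2]
    exact (Commute.zpow_left (show Commute z y from hzc y hy) k).eq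
  · intro h
    obtain ⟨k, hk⟩ := mem_zpowers_iff.1 (mem_zpowers_of hE hz hz1 hzc hx h)
    rw [← hk]
    exact mem_zpowers_iff.2 ⟨k, rfl⟩

variable {M : Ideal AlgInt}

/-- The numbers for the quotient. -/
theorem count (hM : IsPModular 3 M) {H : Type u} [Group H] [Finite H] {Q : Sylow 3 H}
    (hQ : NineBlock.Nine Q) {e : ℕ}
    (he : (centralizer ((Q : Subgroup H) : Set H)).relIndex
      (normalizer ((Q : Subgroup H) : Set H)) = e) (h8 : e = 1 ∨ e = 2 ∨ e = 4 ∨ e = 8)
    (hno : Nat.card (principalBlock M H) = 9 → ∀ eps : IrrCharacter H → ℤ,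
      (∀ χ ∈ principalBlock M H, eps χ = 1 ∨ eps χ = -1) →
      (∀ χ ∈ principalBlock M H, ∀ h : H, 3 ∣ orderOf h → (χ : H → ℂ) h = eps χ) → False) :
    (∀ χ ∈ principalBlock M H, ¬ 3 ∣ charDegree (χ : H → ℂ)) ∧
    (e = 1 ∧ Nat.card (principalBlock M H) = 9 ∧ blockRank 3 (principalBlock M H) = 1 ∨
     e = 2 ∧ Nat.card (principalBlock M H) = 6 ∧ blockRank 3 (principalBlock M H) = 2 ∨
     e = 4 ∧ Nat.card (principalBlock M H) = 6 ∧ blockRank 3 (principalBlock M H) = 4 ∨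
     e = 8 ∧ Nat.card (principalBlock M H) = 6 ∧ blockRank 3 (principalBlock M H) = 5) := by
  have hk := NineBlock.mul_card hM hQ
  rw [he] at hk
  have h9 : Nat.card (principalBlock M H) = (if e = 1 then 9 else 6) ∧
      ∀ χ ∈ principalBlock M H, ¬ 3 ∣ charDegree (χ : H → ℂ) := by
    by_cases h8' : e = 8
    · subst h8'
      obtain ⟨a, h1, h2⟩ := NineBlock.eight hM hQ he
      refine ⟨?_, fun χ hχ => (h1 χ hχ).1⟩
      rcases h2 with h2 | ⟨h2, h3⟩
      · rw [h2]; norm_num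
      · exact (hno h2 a h3 fun χ hχ => (h1 χ hχ).2).elim
    · obtain ⟨h1, h2⟩ := NineBlock.small hM hQ he (by omega)
      refine ⟨?_, h2⟩
      rw [h1]
      rcases h8 with rfl | rfl | rfl | rfl
      · norm_num
      · norm_num
      · norm_num
      · exact absurd rfl h8'
  refine ⟨h9.2, ?_⟩
  rw [h9.1] at hk ⊢
  rcases h8 with rfl | rfl | rfl | rfl
  · left; norm_num at hk ⊢; omega
  · right; left; norm_num at hk ⊢; omega
  · right; right; left; norm_num at hk ⊢; omega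
  · right; right; right; norm_num at hk ⊢; omega

/-- The invariants, for a group with data. -/
theorem invariants (hM : IsPModular 3 M) (hE : IsExtraspecial 3 (P : Subgroup G))
    (h27 : Nat.card (P : Subgroup G) = 27) (hexp : ∀ x ∈ (P : Subgroup G), x ^ 3 = 1)
    (hNC : ∀ g ∈ normalizer ((P : Subgroup G) : Set G), ∀ z ∈ (P : Subgroup G),
      (∀ y ∈ (P : Subgroup G), z * y = y * z) → g * z = z * g)
    (N : Subgroup G) [N.Normal] (w : G ⧸ N) [(zpowers w).Normal]
    (hker : ∀ x ∈ (P : Subgroup G), ((QuotientGroup.mk' (zpowers w)).comp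
      (QuotientGroup.mk' N)) x = 1 ↔ ∀ y ∈ (P : Subgroup G), x * y = y * x)
    (hcen : Central M (G ⧸ N) w) {e : ℕ}
    (he : ((P : Subgroup G) ⊔ centralizer ((P : Subgroup G) : Set G)).relIndex
      (normalizer ((P : Subgroup G) : Set G)) = e) (h8 : e = 1 ∨ e = 2 ∨ e = 4 ∨ e = 8) :
    (∀ χ ∈ principalBlock M ((G ⧸ N) ⧸ zpowers w),
      ¬ 3 ∣ charDegree (χ : (G ⧸ N) ⧸ zpowers w → ℂ)) ∧
    (e = 1 ∧ Nat.card (principalBlock M ((G ⧸ N) ⧸ zpowers w)) = 9 ∧
      blockRank 3 (principalBlock M ((G ⧸ N) ⧸ zpowers w)) = 1 ∨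
     e = 2 ∧ Nat.card (principalBlock M ((G ⧸ N) ⧸ zpowers w)) = 6 ∧
      blockRank 3 (principalBlock M ((G ⧸ N) ⧸ zpowers w)) = 2 ∨
     e = 4 ∧ Nat.card (principalBlock M ((G ⧸ N) ⧸ zpowers w)) = 6 ∧
      blockRank 3 (principalBlock M ((G ⧸ N) ⧸ zpowers w)) = 4 ∨
     e = 8 ∧ Nat.card (principalBlock M ((G ⧸ N) ⧸ zpowers w)) = 6 ∧
      blockRank 3 (principalBlock M ((G ⧸ N) ⧸ zpowers w)) = 5) := by
  have hπ : Function.Surjective ((QuotientGroup.mk' (zpowers w)).comp (QuotientGroup.mk' N)) :=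
    (QuotientGroup.mk'_surjective _).comp (QuotientGroup.mk'_surjective _)
  exact count hM (E27Local.nine P hE h27 hexp hNC _ hπ hker)
    ((E27Local.relIndex_eq P hE _ hπ hker).trans he) h8 hcen.nine

/-- The invariants. -/
theorem main (hM : IsPModular 3 M) (hE : IsExtraspecial 3 (P : Subgroup G))
    (h27 : Nat.card (P : Subgroup G) = 27) (hexp : ∀ x ∈ (P : Subgroup G), x ^ 3 = 1)
    (hNC : ∀ g ∈ normalizer ((P : Subgroup G) : Set G), ∀ z ∈ (P : Subgroup G),
      (∀ y ∈ (P : Subgroup G), z * y = y * z) → g * z = z * g)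
    {z : G} (hz : z ∈ (P : Subgroup G)) (hz1 : z ≠ 1)
    (hzc : ∀ y ∈ (P : Subgroup G), z * y = y * z) (hZ : InZStar 3 z)
    (hC : ∀ {K : Type u} [Group K] [Finite K] (R : Sylow 3 K) (w : K) [(zpowers w).Normal],
      Data R w → Central M K w) {e : ℕ}
    (he : ((P : Subgroup G) ⊔ centralizer ((P : Subgroup G) : Set G)).relIndex
      (normalizer ((P : Subgroup G) : Set G)) = e) (h8 : e = 1 ∨ e = 2 ∨ e = 4 ∨ e = 8) :
    ∃ k l : ℕ, (e = 1 ∧ k = 9 ∧ l = 1 ∨ e = 2 ∧ k = 6 ∧ l = 2 ∨ e = 4 ∧ k = 6 ∧ l = 4 ∨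
        e = 8 ∧ k = 6 ∧ l = 5) ∧
      Nat.card (principalBlock M G) = k + 2 * l ∧
      Nat.card {χ : IrrCharacter G // χ ∈ principalBlock M G ∧
        blockHeight 3 (principalBlock M G) (χ : G → ℂ) = 0} = k ∧
      blockRank 3 (principalBlock M G) = l := by
  have hNp : ¬ 3 ∣ Nat.card (pPrimeCore 3 G) :=
    (Nat.Prime.coprime_iff_not_dvd Nat.prime_three).1 (Lib.Cores.pPrimeCore_coprime (G := G) 3).symm
  have hdata := data P hE h27 hexp hz hz1 hzc hZ
  have hnorm : (zpowers (QuotientGroup.mk z : G ⧸ pPrimeCore 3 G)).Normal := by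
    constructor
    intro a ha g
    have h1 : a ∈ center (G ⧸ pPrimeCore 3 G) := (zpowers_le.2 hdata.center) ha
    rw [mem_center_iff.1 h1 g]
    simpa using ha
  have hcen := hC _ _ hdata
  obtain ⟨h1, h2⟩ := invariants P hM hE h27 hexp hNC (pPrimeCore 3 G)
    (QuotientGroup.mk z : G ⧸ pPrimeCore 3 G)
    (fun x hx => map_eq_one_iff P hE hz hz1 hzc hx) hcen he h8
  refine ⟨_, _, h2, ?_, ?_, ?_⟩
  · rw [PrinQuot.card_eq hM (pPrimeCore 3 G) hNp, hcen.card, hcen.rank]
  · rw [PrinQuot.card_height_eq hM (pPrimeCore 3 G) hNp, hcen.height h1]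
  · rw [PrinQuot.blockRank_eq hM (pPrimeCore 3 G) hNp, hcen.rank]

end Cfsg.Agent.H657.E27Main
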